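import Groth.Prelude.Def_SpSeq
import Mathlib

/-!
# Strict morphisms of filtered objects, elementwise (up to refinements)
-/

open CategoryTheory CategoryTheory.Limits
universe v u

namespace FilStrict

variable {A : Type u} [Category.{v} A] [Abelian A]

lemma factors_arrow_comp {X T : A} (S : Subobject X) (y : T ⟶ (S : A)) : S.Factors (y ≫ S.arrow) :=
  Subobject.factors_comp_arrow y

lemma factors_of_epi_comp {X T T' : A} (S : Subobject X) (π : T' ⟶ T) [Epi π] (x : T ⟶ X)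
    (h : S.Factors (π ≫ x)) : S.Factors x := by
  have h0 : x ≫ cokernel.π S.arrow = 0 := by
    rw [← cancel_epi π, ← Category.assoc, ← Subobject.factorThru_arrow S _ h, Category.assoc,
      cokernel.condition, comp_zero, comp_zero]
  have := Abelian.monoLift_comp S.arrow x h0
  exact this ▸ factors_arrow_comp S _

lemma mem_im {X Y T : A} (f : X ⟶ Y) (x : T ⟶ Y) :
    (imageSubobject f).Factors x ↔ ∃ (T' : A) (π : T' ⟶ T) (_ : Epi π) (y : T' ⟶ X), π ≫ x = y ≫ f := by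
  constructor
  · intro h
    haveI : Epi (factorThruImageSubobject f) := by unfold factorThruImageSubobject; infer_instance
    obtain ⟨T', π, hπ, y, hy⟩ := surjective_up_to_refinements_of_epi (factorThruImageSubobject f)
      ((imageSubobject f).factorThru x h)
    refine ⟨T', π, hπ, y, ?_⟩
    rw [← Subobject.factorThru_arrow _ x h, reassoc_of% hy, imageSubobject_arrow_comp]
  · rintro ⟨T', π, hπ, y, hy⟩
    refine factors_of_epi_comp _ π x ?_
    have : π ≫ x = (y ≫ factorThruImageSubobject f) ≫ (imageSubobject f).arrow := by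
      rw [Category.assoc, imageSubobject_arrow_comp, hy]
    exact this ▸ factors_arrow_comp _ _

lemma mem_im_sub {X Y T : A} (S : Subobject X) (f : X ⟶ Y) (x : T ⟶ Y) :
    (imageSubobject (S.arrow ≫ f)).Factors x ↔
      ∃ (T' : A) (π : T' ⟶ T) (_ : Epi π) (y : T' ⟶ X), S.Factors y ∧ π ≫ x = y ≫ f := by
  rw [mem_im]
  constructor
  · rintro ⟨T', π, hπ, y, hy⟩
    exact ⟨T', π, hπ, y ≫ S.arrow, factors_arrow_comp _ _, by rw [hy, Category.assoc]⟩
  · rintro ⟨T', π, hπ, y, hy, hy'⟩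
    exact ⟨T', π, hπ, S.factorThru y hy, by rw [hy', Subobject.factorThru_arrow_assoc]⟩

lemma mem_comp {X T T' : A} (S : Subobject X) (π : T' ⟶ T) (x : T ⟶ X) (h : S.Factors x) :
    S.Factors (π ≫ x) := Subobject.factors_of_factors_right π h

lemma le_of_factors {X : A} {S S' : Subobject X} (h : ∀ (T : A) (x : T ⟶ X), S.Factors x → S'.Factors x) :
    S ≤ S' := by
  have := h _ S.arrow (Subobject.factors_self S)
  exact Subobject.le_of_comm (S'.factorThru _ this) (Subobject.factorThru_arrow _ _ _)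

variable {K L : SpSeq.FilObj A}

lemma compat (f : K ⟶ L) (p : ℤ) {T : A} (x : T ⟶ K.obj) (h : (K.fil p).Factors x) :
    (L.fil p).Factors (x ≫ f.hom) :=
  (Limits.pullback_factors_iff f.hom (L.fil p) x).1 (Subobject.factors_of_le x (f.compat p) h)

lemma isStrict_iff (f : K ⟶ L) :
    SpSeq.FilObj.IsStrict f ↔ ∀ (p : ℤ) (T : A) (x : T ⟶ K.obj), (L.fil p).Factors (x ≫ f.hom) →
      ∃ (T' : A) (π : T' ⟶ T) (_ : Epi π) (y : T' ⟶ K.obj), (K.fil p).Factors y ∧ π ≫ x ≫ f.hom = y ≫ f.hom := by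
  constructor
  · intro hf p T x hx
    rw [← mem_im_sub, hf p, Subobject.inf_factors]
    exact ⟨(mem_im _ _).2 ⟨T, 𝟙 T, inferInstance, x, Category.id_comp _⟩, hx⟩
  · intro h p
    apply le_antisymm
    · refine le_of_factors fun T x hx => ?_
      obtain ⟨T', π, hπ, y, hy, e⟩ := (mem_im_sub _ _ _).1 hx
      rw [Subobject.inf_factors]
      refine ⟨(mem_im _ _).2 ⟨T', π, hπ, y, e⟩, factors_of_epi_comp _ π x ?_⟩
      rw [e]
      exact compat f p y hy
    · refine le_of_factors fun T x hx => ?_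
      rw [Subobject.inf_factors] at hx
      obtain ⟨T', π, hπ, y, e⟩ := (mem_im _ _).1 hx.1
      obtain ⟨T'', π', hπ', z, hz, e'⟩ := h p T' y (e ▸ mem_comp _ π x hx.2)
      exact (mem_im_sub _ _ _).2 ⟨T'', π' ≫ π, inferInstance, z, hz, by rw [Category.assoc, e, e']⟩

theorem isStrict_comp_of_mono {M : SpSeq.FilObj A} (f : K ⟶ L) (g : L ⟶ M) (hf : SpSeq.FilObj.IsStrict f)
    (hg : SpSeq.FilObj.IsStrict g) [Mono g.hom] : SpSeq.FilObj.IsStrict (f ≫ g) := by
  rw [isStrict_iff] at hf hg ⊢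
  intro p T x hx
  change (M.fil p).Factors (x ≫ f.hom ≫ g.hom) at hx
  obtain ⟨T', π, hπ, y, hy, e⟩ := hg p T (x ≫ f.hom) (by rwa [Category.assoc])
  rw [← Category.assoc π] at e
  have e' := (cancel_mono g.hom).1 e
  obtain ⟨T'', π', hπ', z, hz, e''⟩ := hf p T' (π ≫ x) (by rw [Category.assoc, e']; exact hy)
  refine ⟨T'', π' ≫ π, inferInstance, z, hz, ?_⟩
  change (π' ≫ π) ≫ x ≫ f.hom ≫ g.hom = z ≫ f.hom ≫ g.hom
  simpa only [Category.assoc] using congrArg (· ≫ g.hom) e''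

theorem isStrict_comp_of_epi {M : SpSeq.FilObj A} (f : K ⟶ L) (g : L ⟶ M) (hf : SpSeq.FilObj.IsStrict f)
    (hg : SpSeq.FilObj.IsStrict g) [Epi f.hom] : SpSeq.FilObj.IsStrict (f ≫ g) := by
  rw [isStrict_iff] at hf hg ⊢
  intro p T x hx
  change (M.fil p).Factors (x ≫ f.hom ≫ g.hom) at hx
  obtain ⟨T', π, hπ, y, hy, e⟩ := hg p T (x ≫ f.hom) (by rwa [Category.assoc])
  obtain ⟨T₂, π₂, hπ₂, w, e₂⟩ := surjective_up_to_refinements_of_epi f.hom y
  obtain ⟨T₃, π₃, hπ₃, z, hz, e₃⟩ := hf p T₂ w (e₂ ▸ mem_comp _ π₂ y hy)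
  refine ⟨T₃, π₃ ≫ π₂ ≫ π, inferInstance, z, hz, ?_⟩
  change (π₃ ≫ π₂ ≫ π) ≫ x ≫ f.hom ≫ g.hom = z ≫ f.hom ≫ g.hom
  calc (π₃ ≫ π₂ ≫ π) ≫ x ≫ f.hom ≫ g.hom = π₃ ≫ π₂ ≫ (π ≫ (x ≫ f.hom) ≫ g.hom) := by simp only [Category.assoc]
    _ = (π₃ ≫ π₂ ≫ y) ≫ g.hom := by rw [e]; simp only [Category.assoc]
    _ = (π₃ ≫ w ≫ f.hom) ≫ g.hom := by rw [e₂]
    _ = _ := by rw [e₃, Category.assoc]


theorem isStrict_iso_hom (e : K ≅ L) : SpSeq.FilObj.IsStrict e.hom := by
  rw [isStrict_iff]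
  intro p T x hx
  refine ⟨T, 𝟙 T, inferInstance, x, ?_, Category.id_comp _⟩
  have h := compat e.inv p _ hx
  have h2 : e.hom.hom ≫ e.inv.hom = 𝟙 K.obj := congrArg SpSeq.FilObj.Hom.hom e.hom_inv_id
  rwa [Category.assoc, h2, Category.comp_id] at h

lemma hom_compat_of_factors {X : SpSeq.FilObj A} {Y : SpSeq.FilObj A} (h : X.obj ⟶ Y.obj)
    (hh : ∀ (p : ℤ) (T : A) (x : T ⟶ X.obj), (X.fil p).Factors x → (Y.fil p).Factors (x ≫ h)) (p : ℤ) :
    X.fil p ≤ (Subobject.pullback h).obj (Y.fil p) :=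
  le_of_factors fun T x hx => (Limits.pullback_factors_iff h (Y.fil p) x).2 (hh p T x hx)

/-- Fibre product of filtered objects. -/
noncomputable abbrev fibObj {L M K : SpSeq.FilObj A} (f : L ⟶ K) (g : M ⟶ K) : SpSeq.FilObj A where
  obj := pullback f.hom g.hom
  fil p := (Subobject.pullback (pullback.fst f.hom g.hom)).obj (L.fil p) ⊓
    (Subobject.pullback (pullback.snd f.hom g.hom)).obj (M.fil p)
  anti p q h := inf_le_inf ((Subobject.pullback _).monotone (L.anti h)) ((Subobject.pullback _).monotone (M.anti h))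

section Fib

variable {L M K : SpSeq.FilObj A} (f : L ⟶ K) (g : M ⟶ K)

lemma mem_fib (p : ℤ) {T : A} (x : T ⟶ pullback f.hom g.hom) :
    ((fibObj f g).fil p).Factors x ↔
      (L.fil p).Factors (x ≫ pullback.fst f.hom g.hom) ∧ (M.fil p).Factors (x ≫ pullback.snd f.hom g.hom) := by
  rw [← Limits.pullback_factors_iff, ← Limits.pullback_factors_iff]
  exact Subobject.inf_factors x

/-- First projection. -/
noncomputable def fibFst : fibObj f g ⟶ L :=
  ⟨pullback.fst f.hom g.hom, hom_compat_of_factors _ fun p _ x hx => ((mem_fib f g p x).1 hx).1⟩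

/-- Second projection. -/
noncomputable def fibSnd : fibObj f g ⟶ M :=
  ⟨pullback.snd f.hom g.hom, hom_compat_of_factors _ fun p _ x hx => ((mem_fib f g p x).1 hx).2⟩

theorem isPullback_fib : IsPullback (fibFst f g) (fibSnd f g) f g :=
  IsPullback.of_isLimit' ⟨SpSeq.FilObj.Hom.ext pullback.condition⟩ (PullbackCone.IsLimit.mk _
    (fun s => ⟨pullback.lift s.fst.hom s.snd.hom (congrArg SpSeq.FilObj.Hom.hom s.condition),
      hom_compat_of_factors _ fun p _ x hx => (mem_fib f g p _).2 ⟨by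
        rw [Category.assoc, pullback.lift_fst]; exact compat s.fst p x hx, by
        rw [Category.assoc, pullback.lift_snd]; exact compat s.snd p x hx⟩⟩)
    (fun s => SpSeq.FilObj.Hom.ext (pullback.lift_fst _ _ _))
    (fun s => SpSeq.FilObj.Hom.ext (pullback.lift_snd _ _ _))
    (fun s m h1 h2 => SpSeq.FilObj.Hom.ext (pullback.hom_ext
      ((congrArg SpSeq.FilObj.Hom.hom h1).trans (pullback.lift_fst _ _ _).symm)
      ((congrArg SpSeq.FilObj.Hom.hom h2).trans (pullback.lift_snd _ _ _).symm))))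

theorem isStrict_fibSnd (hf : SpSeq.FilObj.IsStrict f) : SpSeq.FilObj.IsStrict (fibSnd f g) := by
  rw [isStrict_iff] at hf ⊢
  intro p T (x : T ⟶ pullback f.hom g.hom) hx
  change (M.fil p).Factors (x ≫ pullback.snd f.hom g.hom) at hx
  obtain ⟨T', π, hπ, l, hl, e⟩ := hf p T (x ≫ pullback.fst f.hom g.hom) (by
    rw [Category.assoc, pullback.condition, ← Category.assoc]; exact compat g p _ hx)
  refine ⟨T', π, hπ, pullback.lift l (π ≫ x ≫ pullback.snd f.hom g.hom)
    (by rw [← e]; simp [pullback.condition]), (mem_fib f g p _).2 ⟨?_, ?_⟩, ?_⟩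
  · rwa [pullback.lift_fst]
  · rw [pullback.lift_snd]; exact mem_comp _ π _ hx
  · exact (pullback.lift_snd _ _ _).symm

theorem hasPullback_and_isStrict : HasPullback f g ∧ ∀ (P : SpSeq.FilObj A) (g' : P ⟶ L) (f' : P ⟶ M),
    IsPullback g' f' f g → SpSeq.FilObj.IsStrict f → SpSeq.FilObj.IsStrict f' := by
  refine ⟨(isPullback_fib f g).hasPullback, fun P g' f' h hf => ?_⟩
  let e := h.isoIsPullback _ _ (isPullback_fib f g)
  rw [← h.isoIsPullback_hom_snd _ _ (isPullback_fib f g)]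
  haveI : Epi e.hom.hom := inferInstanceAs (Epi (SpSeq.FilObj.forget.map e.hom))
  exact isStrict_comp_of_epi e.hom _ (isStrict_iso_hom e) (isStrict_fibSnd f g hf)

end Fib

/-- Fibre coproduct of filtered objects. -/
noncomputable abbrev cofibObj {K L M : SpSeq.FilObj A} (f : K ⟶ L) (g : K ⟶ M) : SpSeq.FilObj A where
  obj := pushout f.hom g.hom
  fil p := imageSubobject (biprod.desc ((L.fil p).arrow ≫ pushout.inl f.hom g.hom)
    ((M.fil p).arrow ≫ pushout.inr f.hom g.hom))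
  anti p q h := imageSubobject_le _ (biprod.map (L.stepLE h) (M.stepLE h) ≫ factorThruImageSubobject _) (by
    rw [Category.assoc, imageSubobject_arrow_comp]
    apply biprod.hom_ext' <;> simp [SpSeq.FilObj.stepLE])

section Cofib

variable {K L M : SpSeq.FilObj A} (f : K ⟶ L) (g : K ⟶ M)

lemma mem_cofib (p : ℤ) {T : A} (x : T ⟶ pushout f.hom g.hom) :
    ((cofibObj f g).fil p).Factors x ↔
      ∃ (T' : A) (π : T' ⟶ T) (_ : Epi π) (a : T' ⟶ L.obj) (b : T' ⟶ M.obj), (L.fil p).Factors a ∧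
        (M.fil p).Factors b ∧ π ≫ x = a ≫ pushout.inl f.hom g.hom + b ≫ pushout.inr f.hom g.hom := by
  refine (mem_im _ _).trans ⟨?_, ?_⟩
  · rintro ⟨T', π, hπ, y, hy⟩
    refine ⟨T', π, hπ, (y ≫ biprod.fst) ≫ (L.fil p).arrow, (y ≫ biprod.snd) ≫ (M.fil p).arrow,
      factors_arrow_comp _ _, factors_arrow_comp _ _, ?_⟩
    refine hy.trans ?_
    simp [biprod.desc_eq, Preadditive.comp_add]
  · rintro ⟨T', π, hπ, a, b, ha, hb, h⟩
    exact ⟨T', π, hπ, biprod.lift ((L.fil p).factorThru a ha) ((M.fil p).factorThru b hb), h.trans (by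
      rw [biprod.lift_desc]; simp)⟩

/-- First inclusion. -/
noncomputable def cofibInl : L ⟶ cofibObj f g :=
  ⟨pushout.inl f.hom g.hom, hom_compat_of_factors _ fun p T x hx => (mem_cofib f g p _).2
    ⟨T, 𝟙 T, inferInstance, x, 0, hx, Subobject.factors_zero, (Category.id_comp _).trans (by simp)⟩⟩

/-- Second inclusion. -/
noncomputable def cofibInr : M ⟶ cofibObj f g :=
  ⟨pushout.inr f.hom g.hom, hom_compat_of_factors _ fun p T x hx => (mem_cofib f g p _).2
    ⟨T, 𝟙 T, inferInstance, 0, x, Subobject.factors_zero, hx, (Category.id_comp _).trans (by simp)⟩⟩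

theorem isPushout_cofib : IsPushout f g (cofibInl f g) (cofibInr f g) :=
  IsPushout.of_isColimit' ⟨SpSeq.FilObj.Hom.ext pushout.condition⟩ (PushoutCocone.IsColimit.mk _
    (fun s => ⟨pushout.desc s.inl.hom s.inr.hom (congrArg SpSeq.FilObj.Hom.hom s.condition),
      hom_compat_of_factors _ fun p T x hx => by
        obtain ⟨T', π, hπ, a, b, ha, hb, h⟩ := (mem_cofib f g p x).1 hx
        refine factors_of_epi_comp _ π _ ?_
        rw [← Category.assoc, h, Preadditive.add_comp, Category.assoc, Category.assoc, pushout.inl_desc,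
          pushout.inr_desc]
        exact Subobject.factors_add _ _ (compat s.inl p a ha) (compat s.inr p b hb)⟩)
    (fun s => SpSeq.FilObj.Hom.ext (pushout.inl_desc _ _ _))
    (fun s => SpSeq.FilObj.Hom.ext (pushout.inr_desc _ _ _))
    (fun s m h1 h2 => SpSeq.FilObj.Hom.ext (pushout.hom_ext
      ((congrArg SpSeq.FilObj.Hom.hom h1).trans (pushout.inl_desc _ _ _).symm)
      ((congrArg SpSeq.FilObj.Hom.hom h2).trans (pushout.inr_desc _ _ _).symm))))

theorem isStrict_cofibInr (hf : SpSeq.FilObj.IsStrict f) : SpSeq.FilObj.IsStrict (cofibInr f g) := by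
  rw [isStrict_iff] at hf ⊢
  intro p T (x : T ⟶ M.obj) hx
  change ((cofibObj f g).fil p).Factors (x ≫ pushout.inr f.hom g.hom) at hx
  obtain ⟨T', π, hπ, a, b, ha, hb, h⟩ := (mem_cofib f g p _).1 hx
  obtain ⟨T₂, π₂, hπ₂, (k : T₂ ⟶ K.obj), hk⟩ := (ShortComplex.exact_iff_exact_up_to_refinements _).1
    (IsPushout.of_hasPushout f.hom g.hom).exact_shortComplex (biprod.lift a (-(π ≫ x - b))) (by
      change biprod.lift a (-(π ≫ x - b)) ≫ biprod.desc (pushout.inl f.hom g.hom) (pushout.inr f.hom g.hom) = 0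
      rw [biprod.lift_desc, Preadditive.neg_comp, Preadditive.sub_comp, Category.assoc]
      exact h ▸ by abel)
  change π₂ ≫ biprod.lift a (-(π ≫ x - b)) = k ≫ biprod.lift f.hom (-g.hom) at hk
  have h1 : π₂ ≫ a = k ≫ f.hom := by simpa using congrArg (· ≫ biprod.fst) hk
  have h2 : π₂ ≫ (π ≫ x - b) = k ≫ g.hom := by simpa [-neg_sub] using congrArg (fun t => -(t ≫ biprod.snd)) hk
  obtain ⟨T₃, π₃, hπ₃, k', hk', e⟩ := hf p T₂ k (h1 ▸ mem_comp _ π₂ a ha)
  refine ⟨T₃, π₃ ≫ π₂ ≫ π, inferInstance, k' ≫ g.hom + (π₃ ≫ π₂) ≫ b,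
    Subobject.factors_add _ _ (compat g p _ hk') (mem_comp _ _ _ hb), ?_⟩
  change (π₃ ≫ π₂ ≫ π) ≫ x ≫ pushout.inr f.hom g.hom = (k' ≫ g.hom + (π₃ ≫ π₂) ≫ b) ≫ pushout.inr f.hom g.hom
  have hx' : π₂ ≫ π ≫ x = k ≫ g.hom + π₂ ≫ b := by rw [← h2]; simp
  calc (π₃ ≫ π₂ ≫ π) ≫ x ≫ pushout.inr f.hom g.hom = π₃ ≫ (π₂ ≫ π ≫ x) ≫ pushout.inr f.hom g.hom := by
        simp only [Category.assoc]
    _ = (π₃ ≫ k ≫ f.hom) ≫ pushout.inl f.hom g.hom + ((π₃ ≫ π₂) ≫ b) ≫ pushout.inr f.hom g.hom := by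
        rw [hx']; simp [pushout.condition]
    _ = _ := by rw [e]; simp [pushout.condition]

theorem hasPushout_and_isStrict : HasPushout f g ∧ ∀ (P : SpSeq.FilObj A) (g' : L ⟶ P) (f' : M ⟶ P),
    IsPushout f g g' f' → SpSeq.FilObj.IsStrict f → SpSeq.FilObj.IsStrict f' := by
  refine ⟨(isPushout_cofib f g).hasPushout, fun P g' f' h hf => ?_⟩
  let e := (isPushout_cofib f g).isoIsPushout _ _ h
  rw [← (isPushout_cofib f g).inr_isoIsPushout_hom _ _ h]
  haveI : Mono e.hom.hom := inferInstanceAs (Mono (SpSeq.FilObj.forget.map e.hom))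
  exact isStrict_comp_of_mono _ e.hom (isStrict_cofibInr f g hf) (isStrict_iso_hom e)

end Cofib

end FilStrict
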