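import Groth.Prelude.Def_SpSeq

/-! Composition of strict morphisms of filtered objects. -/

universe v u

open CategoryTheory CategoryTheory.Limits

namespace Groth.Agent.FilStrict

variable {A : Type u} [Category.{v} A] [Abelian A]

lemma imageSubobject_epi_comp {X' X Y : A} (h : X' ⟶ X) [Epi h] (f : X ⟶ Y) :
    imageSubobject (h ≫ f) = imageSubobject f := by
  have := imageSubobject_comp_le_epi_of_epi h f
  haveI : IsIso (Subobject.ofLE _ _ (imageSubobject_comp_le h f)) := isIso_of_mono_of_epi _
  exact Subobject.eq_of_comm (asIso (Subobject.ofLE _ _ (imageSubobject_comp_le h f)))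
    (Subobject.ofLE_arrow _)

lemma imageSubobject_comp' {X L M : A} (h : X ⟶ L) (g : L ⟶ M) :
    imageSubobject (h ≫ g) = imageSubobject ((imageSubobject h).arrow ≫ g) := by
  conv_lhs => rw [← imageSubobject_arrow_comp h, Category.assoc]
  exact imageSubobject_epi_comp _ _

lemma map_imageSubobject {X L M : A} (h : X ⟶ L) (g : L ⟶ M) [Mono g] :
    imageSubobject (h ≫ g) = (Subobject.map g).obj (imageSubobject h) := by
  conv_rhs => rw [← Subobject.mk_arrow (imageSubobject h)]
  rw [Subobject.map_mk, imageSubobject_comp', imageSubobject_mono]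

lemma isStrict_comp_of_mono {K L M : SpSeq.FilObj A} (f : K ⟶ L) (g : L ⟶ M)
    (hf : SpSeq.FilObj.IsStrict f) (hg : SpSeq.FilObj.IsStrict g) [Mono g.hom] :
    SpSeq.FilObj.IsStrict (f ≫ g) := by
  intro p
  show imageSubobject ((K.fil p).arrow ≫ f.hom ≫ g.hom) = imageSubobject (f.hom ≫ g.hom) ⊓ M.fil p
  rw [← Category.assoc, map_imageSubobject, hf p, map_imageSubobject, Subobject.inf_map]
  have h1 : (Subobject.map g.hom).obj (L.fil p) = imageSubobject g.hom ⊓ M.fil p := by
    rw [← hg p, imageSubobject_mono ((L.fil p).arrow ≫ g.hom)]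
    conv_lhs => rw [← Subobject.mk_arrow (L.fil p)]
    exact Subobject.map_mk _ _
  have h2 : (Subobject.map g.hom).obj (imageSubobject f.hom) ≤ imageSubobject g.hom := by
    rw [← map_imageSubobject]
    exact imageSubobject_comp_le _ _
  rw [h1, ← inf_assoc, inf_eq_left.2 h2]

lemma isStrict_comp_of_epi {K L M : SpSeq.FilObj A} (f : K ⟶ L) (g : L ⟶ M)
    (hf : SpSeq.FilObj.IsStrict f) (hg : SpSeq.FilObj.IsStrict g) [Epi f.hom] :
    SpSeq.FilObj.IsStrict (f ≫ g) := by
  intro p
  show imageSubobject ((K.fil p).arrow ≫ f.hom ≫ g.hom) = imageSubobject (f.hom ≫ g.hom) ⊓ M.fil p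
  have h0 : imageSubobject f.hom = ⊤ := by
    have h : IsIso (imageSubobject f.hom).arrow := by
      haveI : Epi (imageSubobject f.hom).arrow := by
        haveI : Epi (factorThruImageSubobject f.hom ≫ (imageSubobject f.hom).arrow) := by
          rw [imageSubobject_arrow_comp]; infer_instance
        exact epi_of_epi (factorThruImageSubobject f.hom) _
      exact isIso_of_mono_of_epi _
    exact Subobject.eq_top_of_isIso_arrow _
  rw [imageSubobject_epi_comp f.hom g.hom, ← Category.assoc, imageSubobject_comp', hf p, h0, top_inf_eq]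
  exact hg p

end Groth.Agent.FilStrict
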